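import Mathlib

/-!
Largest opens over which a `K`-local property holds, and base change along open surjections.
-/

universe u

open CategoryTheory CategoryTheory.Limits AlgebraicGeometry

namespace GrpdInvLib

variable {K : Precoverage Scheme.{u}} {PP : MorphismProperty Scheme.{u}}

/-- Hypotheses on a class of covering maps. -/
structure Good (PP : MorphismProperty Scheme.{u}) : Prop where
  bc : PP.IsStableUnderBaseChange
  comp : PP.IsStableUnderComposition
  imm : ∀ {X Y : Scheme.{u}} (f : X ⟶ Y), IsOpenImmersion f → PP f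
  isOpenMap : ∀ {X Y : Scheme.{u}} (f : X ⟶ Y), PP f → IsOpenMap f

theorem good_zariski : Good @IsOpenImmersion :=
  ⟨inferInstance, inferInstance, fun _ h => h, fun f _ => f.isOpenEmbedding.isOpenMap⟩

theorem good_etale : Good @Etale :=
  ⟨inferInstance, inferInstance, fun _ _ => inferInstance, fun f _ => f.isOpenMap⟩

theorem good_smooth : Good @Smooth :=
  ⟨inferInstance, inferInstance, fun _ _ => inferInstance, fun f _ => f.isOpenMap⟩

theorem good_fppf : Good (@Flat ⊓ @LocallyOfFinitePresentation) :=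
  ⟨inferInstance, inferInstance, fun _ _ => ⟨inferInstance, inferInstance⟩,
    fun f h => by obtain ⟨_, _⟩ := h; exact f.isOpenMap⟩

variable (P : MorphismProperty Scheme.{u}) [P.IsLocalAtTarget (Scheme.precoverage PP)]

/-- Descent of `P` from an open of the cover to its image. -/
theorem desc (hPP : Good PP) {Y U V X0 : Scheme.{u}} {g : Y ⟶ U} {f : V ⟶ U} (hf : PP f)
    {a : X0 ⟶ Y} {q : X0 ⟶ V} (hp : IsPullback a q g f) (V' : V.Opens) (U' : U.Opens)
    (hU' : (U' : Set U) = f '' (V' : Set V)) (h : P (q ∣_ V')) : P (g ∣_ U') := by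
  have hle : V' ≤ f ⁻¹ᵁ U' := fun x hx => by
    show f x ∈ (U' : Set U); rw [hU']; exact ⟨x, hx, rfl⟩
  obtain ⟨l, hl⟩ : ∃ l : (V' : Scheme) ⟶ (U' : Scheme), l ≫ U'.ι = V'.ι ≫ f :=
    ⟨f.resLE U' V' hle, by simp⟩
  have hlP : PP l := by
    haveI := hPP.bc; haveI := hPP.comp
    have sq : IsPullback (𝟙 (V' : Scheme)) l (V'.ι ≫ f) U'.ι :=
      IsPullback.of_isLimit' ⟨by simp [hl]⟩
        (PullbackCone.IsLimit.mk _ (fun s => s.fst) (fun s => by simp)
          (fun s => by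
            rw [← cancel_mono U'.ι, Category.assoc, hl, s.condition])
          (fun s m h1 _ => by simpa using h1))
    exact MorphismProperty.of_isPullback sq (MorphismProperty.comp_mem _ _ _ (hPP.imm _ inferInstance) hf)
  have hls : Function.Surjective l.base := fun y => by
    have : (U'.ι y) ∈ f '' (V' : Set V) := hU' ▸ y.2
    obtain ⟨x, hx, hxy⟩ := this
    refine ⟨⟨x, hx⟩, U'.ι.isOpenEmbedding.injective ?_⟩
    rw [← Scheme.Hom.comp_apply, hl, Scheme.Hom.comp_apply]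
    exact hxy
  refine MorphismProperty.IsLocalAtTarget.of_forall_pullbackSnd (K := Scheme.precoverage PP)
    ((Scheme.singleton_mem_precoverage_iff PP l).mpr ⟨hls, hlP⟩) ?_
  intro Z g' _ hg'
  obtain ⟨⟩ := hg'
  have h2 : IsPullback ((q ⁻¹ᵁ V').ι ≫ a) (q ∣_ V') g (l ≫ U'.ι) := by
    rw [hl]
    exact (isPullback_morphismRestrict q V').flip.paste_horiz hp
  have h3 : IsPullback (pullback.fst (g ∣_ U') l ≫ (g ⁻¹ᵁ U').ι) (pullback.snd (g ∣_ U') l) g (l ≫ U'.ι) :=
    (IsPullback.of_hasPullback _ _).paste_horiz (isPullback_morphismRestrict g U').flip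
  exact (P.arrow_mk_iso_iff (Arrow.isoMk (h2.isoIsPullback _ _ h3) (Iso.refl _)
    (by dsimp; rw [Category.comp_id]; exact IsPullback.isoIsPullback_hom_snd _ _ _ _))).mp h

/-- Base change of `P`. -/
theorem baseChange (hPP : Good PP) {Y U V X0 : Scheme.{u}} {g : Y ⟶ U} {f : V ⟶ U} (hf : PP f)
    (hfs : Function.Surjective f.base) {a : X0 ⟶ Y} {q : X0 ⟶ V} (hp : IsPullback a q g f)
    (U' : U.Opens) (h : P (g ∣_ U')) : P (q ∣_ (f ⁻¹ᵁ U')) := by
  have hl : (f ∣_ U') ≫ U'.ι = (f ⁻¹ᵁ U').ι ≫ f := morphismRestrict_ι f U'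
  have hlP : PP (f ∣_ U') := by
    haveI := hPP.bc
    exact MorphismProperty.of_isPullback (isPullback_morphismRestrict f U').flip hf
  have hls : Function.Surjective (f ∣_ U').base := fun y => by
    obtain ⟨x, hx⟩ := hfs (U'.ι y)
    refine ⟨⟨x, show f x ∈ U' from hx ▸ y.2⟩, U'.ι.isOpenEmbedding.injective ?_⟩
    rw [← Scheme.Hom.comp_apply, hl, Scheme.Hom.comp_apply]
    exact hx
  have := MorphismProperty.IsLocalAtTarget.pullbackSnd (P := P) (K := Scheme.precoverage PP)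
    ((Scheme.singleton_mem_precoverage_iff PP (f ∣_ U')).mpr ⟨hls, hlP⟩) ⟨⟩ h
  have h2 : IsPullback ((q ⁻¹ᵁ (f ⁻¹ᵁ U')).ι ≫ a) (q ∣_ (f ⁻¹ᵁ U')) g ((f ∣_ U') ≫ U'.ι) := by
    rw [hl]
    exact (isPullback_morphismRestrict q (f ⁻¹ᵁ U')).flip.paste_horiz hp
  have h3 : IsPullback (pullback.fst (g ∣_ U') (f ∣_ U') ≫ (g ⁻¹ᵁ U').ι)
      (pullback.snd (g ∣_ U') (f ∣_ U')) g ((f ∣_ U') ≫ U'.ι) :=
    (IsPullback.of_hasPullback _ _).paste_horiz (isPullback_morphismRestrict g U').flip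
  exact (P.arrow_mk_iso_iff (Arrow.isoMk (h2.isoIsPullback _ _ h3) (Iso.refl _)
    (by dsimp; rw [Category.comp_id]; exact IsPullback.isoIsPullback_hom_snd _ _ _ _))).mpr this

/-- Two covers with a common base change have the same preimage of the largest good open. -/
theorem preimage_eq {K : Precoverage Scheme.{u}} (hK : K = Scheme.precoverage PP) (hPP : Good PP)
    (Q : MorphismProperty Scheme.{u}) [Q.IsLocalAtTarget K] {Y U V X0 : Scheme.{u}} {g : Y ⟶ U}
    {s t : V ⟶ U} (hs : Presieve.singleton s ∈ K U) (ht : Presieve.singleton t ∈ K U)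
    {a b : X0 ⟶ Y} {q : X0 ⟶ V} (hps : IsPullback a q g s) (hpt : IsPullback b q g t)
    (W : U.Opens) (hW : Q (g ∣_ W)) (hmax : ∀ W' : U.Opens, Q (g ∣_ W') → W' ≤ W) :
    s ⁻¹ᵁ W = t ⁻¹ᵁ W := by
  subst hK
  obtain ⟨hss, hsP⟩ := (Scheme.singleton_mem_precoverage_iff PP s).mp hs
  obtain ⟨hts, htP⟩ := (Scheme.singleton_mem_precoverage_iff PP t).mp ht
  apply le_antisymm
  · have := desc Q hPP htP hpt (s ⁻¹ᵁ W) ⟨t '' (s ⁻¹ᵁ W : Set V), hPP.isOpenMap t htP _ (s ⁻¹ᵁ W).isOpen⟩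
      rfl (baseChange Q hPP hsP hss hps W hW)
    intro x hx
    exact hmax _ this ⟨x, hx, rfl⟩
  · have := desc Q hPP hsP hps (t ⁻¹ᵁ W) ⟨s '' (t ⁻¹ᵁ W : Set V), hPP.isOpenMap s hsP _ (t ⁻¹ᵁ W).isOpen⟩
      rfl (baseChange Q hPP htP hts hpt W hW)
    intro x hx
    exact hmax _ this ⟨x, hx, rfl⟩

end GrpdInvLib
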