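import Groth.Prelude.Def_Grpd

/-!
The two base changes (along source and target) of the source map and of the stabilizer agree.
-/

universe u

open CategoryTheory CategoryTheory.Limits AlgebraicGeometry

namespace GrpdInvLib

variable {S : Scheme.{u}} (G : Grpd.GroupoidScheme S) {T : Scheme.{u}}

/-- Composition of points. -/
noncomputable def mul (α β : T ⟶ G.R) (h : α ≫ G.s = β ≫ G.t) : T ⟶ G.R :=
  pullback.lift α β h ≫ G.c

theorem mul_s (α β : T ⟶ G.R) (h) : mul G α β h ≫ G.s = β ≫ G.s := G.comp_s α β h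

theorem mul_t (α β : T ⟶ G.R) (h) : mul G α β h ≫ G.t = α ≫ G.t := G.comp_t α β h

theorem mul_congr {α α' β β' : T ⟶ G.R} (h : α ≫ G.s = β ≫ G.t) (ha : α = α') (hb : β = β')
    {h' : α' ≫ G.s = β' ≫ G.t} :
    mul G α β h = mul G α' β' h' := by subst ha hb; rfl

theorem comp_mul {T' : Scheme.{u}} (f : T' ⟶ T) (α β : T ⟶ G.R) (h : α ≫ G.s = β ≫ G.t) :
    f ≫ mul G α β h = mul G (f ≫ α) (f ≫ β) (by simp [h]) := by
  rw [mul, mul, ← Category.assoc]; congr 1
  apply pullback.hom_ext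
  · rw [Category.assoc, pullback.lift_fst, pullback.lift_fst]
  · rw [Category.assoc, pullback.lift_snd, pullback.lift_snd]

theorem inv_s (α : T ⟶ G.R) : (α ≫ G.i) ≫ G.s = α ≫ G.t := by rw [Category.assoc, G.i_s]

theorem inv_t (α : T ⟶ G.R) : (α ≫ G.i) ≫ G.t = α ≫ G.s := by rw [Category.assoc, G.i_t]

theorem mul_assoc' (α β γ : T ⟶ G.R) (h₁ : α ≫ G.s = β ≫ G.t) (h₂ : β ≫ G.s = γ ≫ G.t) :
    mul G (mul G α β h₁) γ ((mul_s G α β h₁).trans h₂) =
      mul G α (mul G β γ h₂) (h₁.trans (mul_t G β γ h₂).symm) :=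
  G.assoc α β γ h₁ h₂

theorem inv_mul_cancel_left (α β : T ⟶ G.R) (h : α ≫ G.s = β ≫ G.t) :
    mul G (α ≫ G.i) (mul G α β h) (by rw [inv_s, mul_t]) = β := by
  rw [← mul_assoc' G _ _ _ (inv_s G α) h]
  refine (mul_congr G _ ((G.i_comp α).trans ?_) rfl).trans (G.e_comp β)
  rw [← Category.assoc, h, Category.assoc]

theorem mul_inv_cancel_left (α β : T ⟶ G.R) (h : α ≫ G.t = β ≫ G.t) :
    mul G α (mul G (α ≫ G.i) β (by rw [inv_s, h])) (by rw [mul_t, inv_t]) = β := by
  rw [← mul_assoc' G α (α ≫ G.i) β (inv_t G α).symm]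
  refine (mul_congr G _ ((G.comp_i α).trans ?_) rfl).trans (G.e_comp β)
  rw [← Category.assoc, h, Category.assoc]

theorem mul_inv_cancel_right (α β : T ⟶ G.R) (h : α ≫ G.s = β ≫ G.t) :
    mul G (mul G α β h) (β ≫ G.i) (by rw [mul_s, inv_t]) = α := by
  rw [mul_assoc' G _ _ _ h (inv_t G β).symm]
  refine (mul_congr G _ rfl ((G.comp_i β).trans ?_)).trans (G.comp_e α)
  rw [← Category.assoc, ← h, Category.assoc]

theorem inv_mul_cancel_right (α β : T ⟶ G.R) (h : α ≫ G.s = β ≫ G.s) :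
    mul G (mul G α (β ≫ G.i) (by rw [inv_t, h])) β (by rw [mul_s, inv_s]) = α := by
  rw [mul_assoc' G α (β ≫ G.i) β _ (inv_s G β)]
  refine (mul_congr G _ rfl ((G.i_comp β).trans ?_)).trans (G.comp_e α)
  rw [← Category.assoc, ← h, Category.assoc]

theorem isPullback_source :
    IsPullback G.c (pullback.snd G.s G.t) G.s G.s := by
  have hc : mul G (pullback.fst G.s G.t) (pullback.snd G.s G.t) pullback.condition = G.c := by
    rw [mul]
    refine (congrArg (· ≫ G.c) ?_).trans (Category.id_comp _)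
    apply pullback.hom_ext
    · rw [pullback.lift_fst, Category.id_comp]
    · rw [pullback.lift_snd, Category.id_comp]
  have hw : G.c ≫ G.s = pullback.snd G.s G.t ≫ G.s := by
    rw [← hc]; exact mul_s G _ _ _
  refine IsPullback.of_isLimit' ⟨hw⟩ (PullbackCone.IsLimit.mk hw
    (fun c => pullback.lift (mul G c.fst (c.snd ≫ G.i) (by rw [inv_t, c.condition])) c.snd
      (by rw [mul_s, inv_s])) ?_ ?_ ?_)
  · intro c
    conv_lhs => rw [← hc, comp_mul]
    exact (mul_congr G _ (pullback.lift_fst _ _ _) (pullback.lift_snd _ _ _)).trans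
      (inv_mul_cancel_right G c.fst c.snd c.condition)
  · intro c; exact pullback.lift_snd _ _ _
  · intro c m h1 h2
    apply pullback.hom_ext
    · rw [pullback.lift_fst]
      have e : mul G (m ≫ pullback.fst G.s G.t) (m ≫ pullback.snd G.s G.t) (by simp [pullback.condition]) = c.fst := by
        rw [← comp_mul G m _ _ pullback.condition, hc, h1]
      exact (mul_inv_cancel_right G _ _ (by simp [pullback.condition])).symm.trans
        (mul_congr G _ e (by rw [h2]))
    · rw [pullback.lift_snd, h2]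

/-- The arrow underlying a point of the stabilizer. -/
noncomputable def stArr : G.stabilizer ⟶ G.R := pullback.fst G.j G.diag

theorem stArr_t : stArr G ≫ G.t = G.stabilizerToU := by
  have := congrArg (· ≫ pullback.fst G.pU G.pU) (pullback.condition (f := G.j) (g := G.diag))
  simp only [Grpd.GroupoidScheme.j, Grpd.GroupoidScheme.diag, Category.assoc] at this
  erw [pullback.lift_fst, pullback.lift_fst, Category.comp_id] at this
  exact this

theorem stArr_s : stArr G ≫ G.s = G.stabilizerToU := by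
  have := congrArg (· ≫ pullback.snd G.pU G.pU) (pullback.condition (f := G.j) (g := G.diag))
  simp only [Grpd.GroupoidScheme.j, Grpd.GroupoidScheme.diag, Category.assoc] at this
  erw [pullback.lift_snd, pullback.lift_snd, Category.comp_id] at this
  exact this

/-- A point of the stabilizer from a loop. -/
noncomputable def stLift (γ : T ⟶ G.R) (h : γ ≫ G.t = γ ≫ G.s) : T ⟶ G.stabilizer :=
  pullback.lift γ (γ ≫ G.s) (by
    apply pullback.hom_ext
    · simp only [Grpd.GroupoidScheme.j, Grpd.GroupoidScheme.diag, Category.assoc]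
      rw [pullback.lift_fst, pullback.lift_fst, Category.comp_id, h]
    · simp only [Grpd.GroupoidScheme.j, Grpd.GroupoidScheme.diag, Category.assoc]
      rw [pullback.lift_snd, pullback.lift_snd, Category.comp_id])

@[simp] theorem stLift_arr (γ : T ⟶ G.R) (h) : stLift G γ h ≫ stArr G = γ := pullback.lift_fst _ _ _

theorem stLift_toU (γ : T ⟶ G.R) (h) : stLift G γ h ≫ G.stabilizerToU = γ ≫ G.s :=
  pullback.lift_snd _ _ _

theorem st_ext {x y : T ⟶ G.stabilizer} (h : x ≫ stArr G = y ≫ stArr G) : x = y := by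
  apply pullback.hom_ext h
  have := congrArg (· ≫ G.s) h
  simp only [Category.assoc, stArr_s] at this
  exact this

/-- Conjugation undoes conjugation. -/
theorem conj_conj (h d : T ⟶ G.R) (hd : h ≫ G.s = d ≫ G.t) (hd' : d ≫ G.s = h ≫ G.s)
    (e1 : mul G h d hd ≫ G.s = (h ≫ G.i) ≫ G.t)
    (e2 : (h ≫ G.i) ≫ G.s = mul G (mul G h d hd) (h ≫ G.i) e1 ≫ G.t)
    (e3 : mul G (h ≫ G.i) (mul G (mul G h d hd) (h ≫ G.i) e1) e2 ≫ G.s = h ≫ G.t) :
    mul G (mul G (h ≫ G.i) (mul G (mul G h d hd) (h ≫ G.i) e1) e2) h e3 = d := by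
  refine (mul_congr G _ ?_ rfl).trans (inv_mul_cancel_right G d h hd')
  refine (mul_assoc' G (h ≫ G.i) (mul G h d hd) (h ≫ G.i) ?_ e1).symm.trans ?_
  · rw [inv_s, mul_t]
  · exact mul_congr G _ (inv_mul_cancel_left G h d hd) rfl

theorem conj_conj' (h g : T ⟶ G.R) (hs : g ≫ G.s = h ≫ G.t) (ht : g ≫ G.t = h ≫ G.t)
    (e1 : (h ≫ G.i) ≫ G.s = g ≫ G.t) (e2 : mul G (h ≫ G.i) g e1 ≫ G.s = h ≫ G.t)
    (e3 : h ≫ G.s = mul G (mul G (h ≫ G.i) g e1) h e2 ≫ G.t)
    (e4 : mul G h (mul G (mul G (h ≫ G.i) g e1) h e2) e3 ≫ G.s = (h ≫ G.i) ≫ G.t) :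
    mul G (mul G h (mul G (mul G (h ≫ G.i) g e1) h e2) e3) (h ≫ G.i) e4 = g := by
  refine (mul_congr G _ ?_ rfl).trans (mul_inv_cancel_right G g h hs)
  refine (mul_assoc' G h (mul G (h ≫ G.i) g e1) h ?_ e2).symm.trans ?_
  · rw [mul_t, inv_t]
  · exact mul_congr G _ (mul_inv_cancel_left G h g ht.symm) rfl

theorem comp_mul₂ {T' : Scheme.{u}} (f : T' ⟶ T) (α β γ : T ⟶ G.R) (h : α ≫ G.s = β ≫ G.t)
    (h' : mul G α β h ≫ G.s = γ ≫ G.t) {a b c : T' ⟶ G.R} (ha : f ≫ α = a) (hb : f ≫ β = b)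
    (hc : f ≫ γ = c) :
    ∃ (k : a ≫ G.s = b ≫ G.t) (k' : mul G a b k ≫ G.s = c ≫ G.t),
      f ≫ mul G (mul G α β h) γ h' = mul G (mul G a b k) c k' := by
  subst ha hb hc
  refine ⟨by simp [h], ?_, ?_⟩
  · rw [← comp_mul G f α β h, Category.assoc, Category.assoc, h']
  · exact (comp_mul G f _ _ _).trans (mul_congr G _ (comp_mul G f _ _ _) rfl)

theorem exists_isPullback_stabilizer :
    ∃ a : pullback G.stabilizerToU G.t ⟶ G.stabilizer,
      IsPullback a (pullback.snd G.stabilizerToU G.t) G.stabilizerToU G.s := by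
  let γ := pullback.fst G.stabilizerToU G.t ≫ stArr G
  let η := pullback.snd G.stabilizerToU G.t
  have hγs : γ ≫ G.s = η ≫ G.t := by
    rw [Category.assoc, stArr_s]; exact pullback.condition
  have hγt : γ ≫ G.t = η ≫ G.t := by
    rw [Category.assoc, stArr_t]; exact pullback.condition
  have e1 : (η ≫ G.i) ≫ G.s = γ ≫ G.t := by rw [inv_s, hγt]
  let δ := mul G (mul G (η ≫ G.i) γ e1) η (by rw [mul_s, hγs])
  have hδs : δ ≫ G.s = η ≫ G.s := mul_s G _ _ _
  have hδt : δ ≫ G.t = η ≫ G.s := by rw [mul_t, mul_t, inv_t]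
  refine ⟨stLift G δ (hδt.trans hδs.symm), ?_⟩
  have hw : stLift G δ (hδt.trans hδs.symm) ≫ G.stabilizerToU = η ≫ G.s := by
    rw [stLift_toU, hδs]
  have hinv : ∀ {T : Scheme.{u}} (d h : T ⟶ G.R) (hd : h ≫ G.s = d ≫ G.t) (hd' : d ≫ G.s = h ≫ G.s),
      (mul G (mul G h d hd) (h ≫ G.i) (by rw [mul_s, inv_t, hd'])) ≫ G.t =
        (mul G (mul G h d hd) (h ≫ G.i) (by rw [mul_s, inv_t, hd'])) ≫ G.s := by
    intro T d h hd hd'; rw [mul_t, mul_t, mul_s, inv_s]
  refine IsPullback.of_isLimit' ⟨hw⟩ (PullbackCone.IsLimit.mk hw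
    (fun c => pullback.lift
      (stLift G _ (hinv (c.fst ≫ stArr G) c.snd
        (by rw [Category.assoc, stArr_t, c.condition]) (by rw [Category.assoc, stArr_s, c.condition])))
      c.snd (by rw [stLift_toU, mul_s, inv_s])) ?_ ?_ ?_)
  · intro c
    apply st_ext
    rw [Category.assoc, stLift_arr]
    have hd : c.snd ≫ G.s = (c.fst ≫ stArr G) ≫ G.t := by rw [Category.assoc, stArr_t, c.condition]
    have hd' : (c.fst ≫ stArr G) ≫ G.s = c.snd ≫ G.s := by rw [Category.assoc, stArr_s, c.condition]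
    have hm : mul G c.snd (c.fst ≫ stArr G) hd ≫ G.s = (c.snd ≫ G.i) ≫ G.t := by
      rw [mul_s, inv_t, hd']
    set l := pullback.lift (stLift G _ (hinv (c.fst ≫ stArr G) c.snd hd hd')) c.snd
      (by rw [stLift_toU, mul_s, inv_s])
    have l1 : l ≫ η = c.snd := pullback.lift_snd _ _ _
    have l2 : l ≫ γ = mul G (mul G c.snd (c.fst ≫ stArr G) hd) (c.snd ≫ G.i) hm := by
      rw [← Category.assoc, pullback.lift_fst, stLift_arr]
    obtain ⟨k, k', e⟩ := comp_mul₂ G l (η ≫ G.i) γ η e1 (by rw [mul_s, hγs])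
      (a := c.snd ≫ G.i) (by rw [← Category.assoc, l1]) l2 l1
    exact e.trans (conj_conj G c.snd (c.fst ≫ stArr G) hd hd' hm k k')
  · intro c; exact pullback.lift_snd _ _ _
  · intro c m h1 h2
    apply pullback.hom_ext
    · apply st_ext
      rw [pullback.lift_fst, stLift_arr]
      have l1 : m ≫ η = c.snd := h2
      have l2 : m ≫ δ = c.fst ≫ stArr G := by
        rw [← h1, Category.assoc, stLift_arr]
      rw [Category.assoc]
      change m ≫ γ = _
      have he : (mul G (η ≫ G.i) γ e1) ≫ G.s = η ≫ G.t := by rw [mul_s, hγs]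
      have k3 : η ≫ G.s = δ ≫ G.t := hδt.symm
      have k4 : mul G η δ k3 ≫ G.s = (η ≫ G.i) ≫ G.t := by rw [mul_s, inv_t, hδs]
      have hcore : mul G (mul G η δ k3) (η ≫ G.i) k4 = γ :=
        conj_conj' G η γ hγs hγt e1 he k3 k4
      obtain ⟨k, k', e⟩ := comp_mul₂ G m η δ (η ≫ G.i) k3 k4
        (a := c.snd) (b := c.fst ≫ stArr G) (c := c.snd ≫ G.i) l1 l2 (by rw [← Category.assoc, l1])
      exact (congrArg (m ≫ ·) hcore).symm.trans e
    · rw [pullback.lift_snd, h2]

end GrpdInvLib
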